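import Mathlib
import Cfsg.Agent.Base
import Cfsg.Agent.Lib.EG.Chain
import Cfsg.Agent.Lib.Stein3.Data
import Cfsg.Agent.Lib.Chev.Simple
import Cfsg.Agent.Lib.Chev.Facts

/-!
The exceptional Chevalley groups over fields with at least nine elements are squares of a
conjugacy class.
-/

set_option autoImplicit false

namespace H37.EG

open H38 Cfsg Cfsg.Lie

lemma prod_s {ι l : Type} [Fintype l] [DecidableEq l] (R : RS ι l) (ω : List l) :
    (ω.map R.s).prod ∈ R.W ∧ ∀ r, (ω.map R.s).prod r = ω.foldr R.σ r := by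
  induction ω with
  | nil => exact ⟨one_mem _, fun _ => rfl⟩
  | cons a L ih =>
    rw [List.map_cons, List.prod_cons]
    exact ⟨mul_mem (R.s_mem_W a) ih.1, fun r => by
      rw [Equiv.Perm.mul_apply, ih.2, R.s_apply, List.foldr_cons]⟩

/-- An entry of a table of indices. -/
def finOf {n : ℕ} (h : 0 < n) (a : ℕ) : Fin n := ⟨a % n, Nat.mod_lt _ h⟩

/-- Levi data from tables. -/
noncomputable def mkLD {n l : ℕ} (R : RS (Fin n) (Fin l)) (hn : 0 < n) (hl : 0 < l) (m : ℕ)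
    (ρ ω : List ℕ) (lam mu : List ℤ)
    (h1 : ∀ r, let v := ∑ i : Fin l, lam.getD i 0 * R.wt r i
      ((∀ j, 0 ≤ R.rt r j) → 0 ≤ v) ∧ v ≤ 7 ∧ (v = 0 → ∃ i j : Fin (m + 1),
        r = finOf hn (ρ.getD ((m + 1) * i + j) 0) ∧ i ≠ j ∧ ((∀ j, 0 ≤ R.rt r j) ↔ i < j)))
    (h2 : ∀ i j : Fin (m + 1), i ≠ j → let r := finOf hn (ρ.getD ((m + 1) * i + j) 0)
      ∑ a : Fin l, lam.getD a 0 * R.wt r a = 0 ∧ ∑ a : Fin l, mu.getD a 0 * R.wt r a =
        (if i = 0 then 1 else 0) - if j = 0 then 1 else 0)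
    (h3 : ∀ j : Fin l, ∑ i : Fin l, lam.getD i 0 * R.cor ((ω.map (finOf hl)).foldr R.σ (R.sim i)) j =
      -lam.getD j 0)
    (h4 : ∀ i j : Fin (m + 1), (j : ℕ) = i + 1 →
      (ω.map (finOf hl)).foldr R.σ (finOf hn (ρ.getD ((m + 1) * i + j) 0)) =
        finOf hn (ρ.getD ((m + 1) * j + i) 0)) : LD R (m + 1) where
  ρ i j := finOf hn (ρ.getD ((m + 1) * i + j) 0)
  lam i := lam.getD i 0
  mu i := mu.getD i 0
  i₀ := 0
  i₁ := 0
  w := ((ω.map (finOf hl)).map R.s).prod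
  w_mem := (prod_s R _).1
  dom r := (h1 r).1
  le r := (h1 r).2.1
  zero i j h := (h2 i j h).1
  pos r h hr := let ⟨i, j, a, b, c⟩ := (h1 r).2.2 h; ⟨i, j, b, Fin.ne_zero_of_lt (c.1 hr), a⟩
  neg r h hr := let ⟨i, j, a, b, c⟩ := (h1 r).2.2 h
    ⟨i, j, b, Fin.ne_zero_of_lt (lt_of_le_of_ne (not_lt.1 (mt c.2 hr)) b.symm), a⟩
  mu_eq i j h := (h2 i j h).2
  w_lam j := by simp only [(prod_s R _).2]; exact h3 j
  w_ρ := Or.inr fun i j h => by rw [(prod_s R _).2]; exact h4 i j h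

variable {F G : Type*} [Field F] [Fintype F] (hF : 9 ≤ Fintype.card F) [Group G] [Finite G]

lemma sq_chev {D : ChevalleyDatum}
    (hD : D ∈ [chevG2, chevB2, chevD4, chevF4, chevE6, chevE7, chevE8]) (R : RootSys D)
    (e : G ≃* D.group F) (h : ∀ [Finite (D.group F)] (E : Elts R.toRS F (D.group F)), E.Faith →
      E.Gp = ⊤ → R.Connected → E.R3 → SqZ (D.group F)) :
    ∃ c : G, ∀ g : G, ∃ x y : G, g = (x * c * x⁻¹) * (y * c * y⁻¹) := by
  have := Finite.of_equiv _ e.toEquiv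
  obtain ⟨E, hE⟩ := (matFacts hD F).exists_isMat R
  exact (h hE.grp hE.grp_faith hE.grp_top (R.connected hD) hE.grp_R3).of_surj e.symm.toMonoidHom
    e.symm.surjective (by rw [hE.center_eq_bot]; exact bot_le)

/-- Levi data of type G2. -/
noncomputable def ldG2 : LD rsG2.toRS (0 + 1) :=
  mkLD _ (by decide +kernel) (by decide +kernel) 0
    [0]
    [0, 1, 0, 1, 0, 1]
    [3, 5] [0, 0]
    (by decide +kernel) (by decide +kernel) (by decide +kernel) (by decide +kernel)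

/-- Levi data of type F4. -/
noncomputable def ldF4 : LD rsF4.toRS (1 + 1) :=
  mkLD _ (by decide +kernel) (by decide +kernel) 1
    [0, 27, 20, 0]
    [0, 1, 0, 2, 1, 0, 2, 1, 2, 3, 2, 1, 0, 2, 1, 2, 3, 2, 1, 0, 2, 1, 2, 3]
    [5, 9, 13, 7] [-1, 0, 0, 0]
    (by decide +kernel) (by decide +kernel) (by decide +kernel) (by decide +kernel)

/-- Levi data of type E6. -/
noncomputable def ldE6 : LD rsE6.toRS (2 + 1) :=
  mkLD _ (by decide +kernel) (by decide +kernel) 2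
    [0, 39, 47, 32, 0, 46, 24, 25, 0]
    [0, 1, 2, 0, 3, 1, 2, 0, 3, 2, 4, 3, 1, 2, 0, 3, 2, 4, 3, 1, 5, 4, 3, 1, 2, 0, 3, 2, 4, 3, 1,
    5, 4, 3, 2, 0]
    [5, 6, 9, 12, 9, 5] [0, 0, -1, 0, 0, 0]
    (by decide +kernel) (by decide +kernel) (by decide +kernel) (by decide +kernel)

/-- Levi data of type E7. -/
noncomputable def ldE7 : LD rsE7.toRS (3 + 1) :=
  mkLD _ (by decide +kernel) (by decide +kernel) 3
    [0, 73, 74, 75, 52, 0, 69, 70, 51, 56, 0, 66, 50, 55, 59, 0]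
    [0, 1, 2, 0, 3, 1, 2, 0, 3, 2, 4, 3, 1, 2, 0, 3, 2, 4, 3, 1, 5, 4, 3, 1, 2, 0, 3, 2, 4, 3, 1,
    5, 4, 3, 2, 0, 6, 5, 4, 3, 1, 2, 0, 3, 2, 4, 3, 1, 5, 4, 3, 2, 0, 6, 5, 4, 3, 1, 2, 3, 4, 5,
    6]
    [7, 10, 13, 19, 15, 11, 6] [-1, 0, 0, 0, 0, 0, 0]
    (by decide +kernel) (by decide +kernel) (by decide +kernel) (by decide +kernel)

/-- Levi data of type E8. -/
noncomputable def ldE8 : LD rsE8.toRS (5 + 1) :=
  mkLD _ (by decide +kernel) (by decide +kernel) 5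
    [0, 135, 136, 137, 138, 139, 104, 0, 130, 131, 132, 133, 103, 109, 0, 126, 127, 128, 102, 108,
    113, 0, 123, 124, 101, 107, 112, 116, 0, 121, 100, 106, 111, 115, 118, 0]
    [0, 1, 2, 0, 3, 1, 2, 0, 3, 2, 4, 3, 1, 2, 0, 3, 2, 4, 3, 1, 5, 4, 3, 1, 2, 0, 3, 2, 4, 3, 1,
    5, 4, 3, 2, 0, 6, 5, 4, 3, 1, 2, 0, 3, 2, 4, 3, 1, 5, 4, 3, 2, 0, 6, 5, 4, 3, 1, 2, 3, 4, 5,
    6, 7, 6, 5, 4, 3, 1, 2, 0, 3, 2, 4, 3, 1, 5, 4, 3, 2, 0, 6, 5, 4, 3, 1, 2, 3, 4, 5, 6, 7, 6,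
    5, 4, 3, 1, 2, 0, 3, 2, 4, 3, 1, 5, 4, 3, 2, 0, 6, 5, 4, 3, 1, 2, 3, 4, 5, 6, 7]
    [11, 16, 21, 31, 25, 19, 13, 7] [-1, 0, 0, 0, 0, 0, 0, 0]
    (by decide +kernel) (by decide +kernel) (by decide +kernel) (by decide +kernel)

include hF in
theorem sq_G2 (e : G ≃* chevG2.group F) :
    ∃ c : G, ∀ g : G, ∃ x y : G, g = (x * c * x⁻¹) * (y * c * y⁻¹) :=
  sq_chev (by simp) rsG2 e fun _ a b c d =>
    sqz_small a b c d (by simpa using hF) ldG2 (by decide +kernel) (by omega)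

include hF in
theorem sq_F4 (e : G ≃* chevF4.group F) :
    ∃ c : G, ∀ g : G, ∃ x y : G, g = (x * c * x⁻¹) * (y * c * y⁻¹) :=
  sq_chev (by simp) rsF4 e fun _ a b c d =>
    sqz_small a b c d (by simpa using hF) ldF4 (by decide +kernel) (by omega)

include hF in
theorem sq_E6 (e : G ≃* chevE6.group F) :
    ∃ c : G, ∀ g : G, ∃ x y : G, g = (x * c * x⁻¹) * (y * c * y⁻¹) :=
  sq_chev (by simp) rsE6 e fun _ a b c d =>
    sqz_sl a b c d (by simpa using hF) ldE6 (by decide +kernel) H6.slE6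
      (by decide +kernel) (by decide +kernel)

include hF in
theorem sq_E7 (e : G ≃* chevE7.group F) :
    ∃ c : G, ∀ g : G, ∃ x y : G, g = (x * c * x⁻¹) * (y * c * y⁻¹) :=
  sq_chev (by simp) rsE7 e fun _ a b c d =>
    sqz_sl a b c d (by simpa using hF) ldE7 (by decide +kernel) H6.slE7
      (by decide +kernel) (by decide +kernel)

include hF in
theorem sq_E8 (e : G ≃* chevE8.group F) :
    ∃ c : G, ∀ g : G, ∃ x y : G, g = (x * c * x⁻¹) * (y * c * y⁻¹) :=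
  sq_chev (by simp) rsE8 e fun _ a b c d =>
    sqz_sl a b c d (by simpa using hF) ldE8 (by decide +kernel) H6.slE8
      (by decide +kernel) (by decide +kernel)

end H37.EG
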